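import Groth.Agent.Lib.Helper34.Curve.Places
import Groth.Agent.Lib.Helper88.FunFldZeros

/-!
# Closed points of a smooth proper curve and places of its function field, relative to a given
proof `hK` that the function field is a function field of one variable with constant field `k`
(helper34).  This is the version used over algebraically closed fields.
-/

set_option autoImplicit false
set_option linter.style.haveILetI false

namespace Groth.Agent.Lib.Helper34.CurveAC

universe u

open AlgebraicGeometry CategoryTheory FunFld IsLocalRing Groth.Agent.Lib.Helper88.FF
open Groth.Agent.Lib.Helper34.Curve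

variable (k : Type u) [Field k] (C : Scheme.{u}) [C.Over (Spec (CommRingCat.of k))] [IsIntegral C]

/-- over an algebraically closed field the function field of a curve is a function field -/
theorem isFunctionField_of_isAlgClosed [IsAlgClosed k]
    [LocallyOfFiniteType (C ↘ Spec (CommRingCat.of k))] (hdim : topologicalKrullDim C = 1) :
    IsFunctionField k C.functionField := by
  refine ⟨exists_transcendental_finite_functionField k C hdim, fun y hy => ?_⟩
  haveI : Algebra.IsAlgebraic k (IntermediateField.adjoin k ({y} : Set C.functionField)) :=
    IntermediateField.isAlgebraic_adjoin_simple hy.isIntegral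
  haveI : Algebra.IsIntegral k (IntermediateField.adjoin k ({y} : Set C.functionField)) :=
    Algebra.IsAlgebraic.isIntegral
  obtain ⟨c, hc⟩ := (IsAlgClosed.algebraMap_bijective_of_isIntegral (k := k)
    (K := IntermediateField.adjoin k ({y} : Set C.functionField))).2
    ⟨y, IntermediateField.mem_adjoin_simple_self k y⟩
  exact ⟨c, by
    have := congrArg (algebraMap (IntermediateField.adjoin k ({y} : Set C.functionField))
      C.functionField) hc
    rw [← IsScalarTower.algebraMap_apply] at this
    exact this⟩

variable [Smooth (C ↘ Spec (CommRingCat.of k))] [IsProper (C ↘ Spec (CommRingCat.of k))]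
  (hdim : topologicalKrullDim C = 1) (hK : IsFunctionField k C.functionField)

/-- The place of the function field attached to a closed point. -/
noncomputable def placeOf (x : C) (hx : x ≠ genericPoint C) : Place k C.functionField :=
  Classical.choose (exists_place_of_valuationSubring hK
    (Oval k C hdim x) (algebraMap_mem_O k C x) (Classical.choose_spec (exists_not_mem_O C hx)))

lemma placeOf_spec (x : C) (hx : x ≠ genericPoint C) (w : C.functionField) :
    (placeOf k C hdim hK x hx).1 w ≤ 1 ↔ w ∈ O C x :=
  Classical.choose_spec (exists_place_of_valuationSubring hK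
    (Oval k C hdim x) (algebraMap_mem_O k C x) (Classical.choose_spec (exists_not_mem_O C hx))) w

lemma placeOf_center (P : Place k C.functionField) :
    placeOf k C hdim hK (center k C P) (center_ne_genericPoint k C P) = P := by
  apply place_eq_of_le
  intro y hy
  rw [placeOf_spec] at hy
  obtain ⟨a, rfl⟩ := hy
  exact (Valuation.mem_valuationSubring_iff _ _).1 ((isCenter_center k C P).1 a)

include hdim hK in
lemma mem_O_center (P : Place k C.functionField) (w : C.functionField) :
    w ∈ O C (center k C P) ↔ P.1 w ≤ 1 := by
  rw [← placeOf_spec k C hdim hK _ (center_ne_genericPoint k C P), placeOf_center]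

lemma isCenter_placeOf (x : C) (hx : x ≠ genericPoint C) :
    IsCenter C (placeOf k C hdim hK x hx).O x := by
  refine ⟨fun a => ?_, fun a ha => ?_⟩
  · rw [Valuation.mem_valuationSubring_iff, placeOf_spec]
    exact ⟨a, rfl⟩
  · by_contra hcon
    rw [not_lt] at hcon
    have hle : (placeOf k C hdim hK x hx).O.valuation
        (algebraMap (C.presheaf.stalk x) C.functionField a) ≤ 1 := by
      rw [ValuationSubring.valuation_le_one_iff, Valuation.mem_valuationSubring_iff, placeOf_spec]
      exact ⟨a, rfl⟩
    have heq := le_antisymm hle hcon
    have hinv : (placeOf k C hdim hK x hx).O.valuation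
        (algebraMap (C.presheaf.stalk x) C.functionField a)⁻¹ ≤ 1 := by
      rw [map_inv₀, heq, inv_one]
    rw [ValuationSubring.valuation_le_one_iff, Valuation.mem_valuationSubring_iff,
      placeOf_spec] at hinv
    obtain ⟨b, hb⟩ := hinv
    have ha0 : algebraMap (C.presheaf.stalk x) C.functionField a ≠ 0 := by
      intro h0
      rw [h0, map_zero] at heq
      exact zero_ne_one heq
    have hab : a * b = 1 := by
      apply IsFractionRing.injective (C.presheaf.stalk x) C.functionField
      rw [map_mul, hb, map_one, mul_inv_cancel₀ ha0]
    exact ha (IsUnit.of_mul_eq_one b hab)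

lemma center_placeOf (x : C) (hx : x ≠ genericPoint C) :
    center k C (placeOf k C hdim hK x hx) = x :=
  isCenter_unique k C (placeOf k C hdim hK x hx).O
    (fun c => (Valuation.mem_valuationSubring_iff _ _).2 ((placeOf k C hdim hK x hx).2.1 c))
    (isCenter_center k C _) (isCenter_placeOf k C hdim hK x hx)

/-- Closed points of the curve correspond to places of the function field. -/
noncomputable def placeEquiv : {x : C // x ≠ genericPoint C} ≃ Place k C.functionField where
  toFun x := placeOf k C hdim hK x.1 x.2
  invFun P := ⟨center k C P, center_ne_genericPoint k C P⟩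
  left_inv x := Subtype.ext (center_placeOf k C hdim hK x.1 x.2)
  right_inv P := placeOf_center k C hdim hK P

include hdim hK in
lemma center_injective : Function.Injective (center k C) := by
  intro P Q h
  have := congrArg Subtype.val
    ((placeEquiv k C hdim hK).symm.injective (a₁ := P) (a₂ := Q) (Subtype.ext h))
  exact Subtype.ext this

lemma placeOf_injective {x y : C} (hx : x ≠ genericPoint C) (hy : y ≠ genericPoint C)
    (h : placeOf k C hdim hK x hx = placeOf k C hdim hK y hy) : x = y := by
  have := congrArg (center k C) h
  rwa [center_placeOf, center_placeOf] at this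

include k hdim hK in
/-- A rational function has finitely many poles. -/
theorem finite_not_mem_O (c : C.functionField) : {x : C | c ∉ O C x}.Finite := by
  refine ((finite_support_ord hK c).image (center k C)).subset ?_
  intro x hx
  rw [Set.mem_setOf_eq] at hx
  have hxg : x ≠ genericPoint C := by
    rintro rfl
    exact hx (mem_O_genericPoint C c)
  refine ⟨placeOf k C hdim hK x hxg, ?_, center_placeOf k C hdim hK x hxg⟩
  rw [Function.mem_support]
  intro h0
  apply hx
  rw [← placeOf_spec k C hdim hK x hxg]
  by_cases hc : c = 0
  · rw [hc, map_zero]
    exact zero_le_one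
  · rw [val_le_one_iff _ hc, h0]

/-- The local ring at a closed point is the valuation ring of the corresponding place. -/
noncomputable def stalkEquiv (x : C) (hx : x ≠ genericPoint C) :
    C.presheaf.stalk x ≃+* (placeOf k C hdim hK x hx).O :=
  RingEquiv.ofBijective
    ((algebraMap (C.presheaf.stalk x) C.functionField).codRestrict
      (placeOf k C hdim hK x hx).O.toSubring
      (fun a => (Valuation.mem_valuationSubring_iff _ _).2
        ((placeOf_spec k C hdim hK x hx _).2 ⟨a, rfl⟩)))
    ⟨fun a b h => IsFractionRing.injective (C.presheaf.stalk x) C.functionField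
        (congrArg Subtype.val h),
      fun w => by
        obtain ⟨a, ha⟩ := (placeOf_spec k C hdim hK x hx w.1).1
          ((Valuation.mem_valuationSubring_iff _ _).1 w.2)
        exact ⟨a, Subtype.ext ha⟩⟩

lemma stalkEquiv_apply (x : C) (hx : x ≠ genericPoint C) (a : C.presheaf.stalk x) :
    ((stalkEquiv k C hdim hK x hx a : (placeOf k C hdim hK x hx).O) : C.functionField) =
      algebraMap (C.presheaf.stalk x) C.functionField a := rfl

end Groth.Agent.Lib.Helper34.CurveAC
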